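import Groth.Prelude.Def_TwC
import Mathlib.AlgebraicGeometry.Morphisms.Flat
import Mathlib.AlgebraicGeometry.Morphisms.Etale
import Mathlib.AlgebraicGeometry.Morphisms.UniversallyOpen

/-!
# Finite affine refinements of étale coverings of an affine scheme
-/

set_option autoImplicit false
open CategoryTheory CategoryTheory.Limits AlgebraicGeometry
universe u

namespace K915.RedHaar

/-- An étale-local property over `Spec R`, stable under open restriction, holds over the members of a finite family of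
flat `R`-algebras whose spectra cover `Spec R`. -/
theorem exists_finite_cover_etale {R : Type u} [CommRing R]
    {P : ∀ (S' : Scheme.{u}), (S' ⟶ Spec (CommRingCat.of R)) → Prop}
    (hP : ∀ {T T' : Scheme.{u}} (g : T' ⟶ T) (f : T ⟶ Spec (CommRingCat.of R)), IsOpenImmersion g → P T f →
      P T' (g ≫ f))
    (h : ∀ s : Spec (CommRingCat.of R), ∃ (U : Scheme.{u}) (f : U ⟶ Spec (CommRingCat.of R)), Etale f ∧
      s ∈ Set.range f ∧ P U f) :
    ∃ (ι : Type) (_ : Fintype ι) (B : ι → Type u) (_ : ∀ i, CommRing (B i)) (_ : ∀ i, Algebra R (B i)),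
      (∀ i, Module.Flat R (B i)) ∧
      (∀ p : PrimeSpectrum R, ∃ i, ∃ q : PrimeSpectrum (B i), PrimeSpectrum.comap (algebraMap R (B i)) q = p) ∧
      ∀ i, P (Spec (CommRingCat.of (B i))) (Spec.map (CommRingCat.ofHom (algebraMap R (B i)))) := by
  have key : ∀ s : Spec (CommRingCat.of R), ∃ (B : CommRingCat.{u}) (g : Spec B ⟶ Spec (CommRingCat.of R)),
      Etale g ∧ s ∈ Set.range g ∧ P (Spec B) g := by
    intro s
    obtain ⟨U, f, hf, ⟨x, hx⟩, hPU⟩ := h s
    obtain ⟨_, ⟨V, hV, rfl⟩, hxV, -⟩ := U.isBasis_affineOpens.exists_subset_of_mem_open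
      (Set.mem_univ x) isOpen_univ
    have hxr : x ∈ Set.range (IsAffineOpen.fromSpec hV) := by
      rw [IsAffineOpen.range_fromSpec]
      exact hxV
    obtain ⟨y, hy⟩ := hxr
    refine ⟨_, IsAffineOpen.fromSpec hV ≫ f, inferInstance, ⟨y, ?_⟩, hP _ _ inferInstance hPU⟩
    rw [Scheme.Hom.comp_apply, hy, hx]
  choose B g hg hs hPg using key
  have hopen : ∀ s, IsOpen (Set.range (g s)) := fun s => by
    have : UniversallyOpen (g s) := inferInstance
    exact (g s).isOpenMap.isOpen_range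
  obtain ⟨t, ht⟩ := isCompact_univ.elim_finite_subcover (fun s => Set.range (g s)) hopen
    (fun x _ => Set.mem_iUnion.mpr ⟨x, hs x⟩)
  let e : Fin t.card ≃ t := t.equivFin.symm
  let φ : ∀ s, CommRingCat.of R ⟶ B s := fun s => Spec.preimage (g s)
  have hφ : ∀ s, Spec.map (φ s) = g s := fun s => Spec.map_preimage _
  refine ⟨Fin t.card, inferInstance, fun i => B (e i).1, fun i => inferInstance,
    fun i => (φ (e i).1).hom.toAlgebra, fun i => ?_, fun p => ?_, fun i => ?_⟩
  · have h1 : Flat (Spec.map (φ (e i).1)) := by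
      rw [hφ]
      infer_instance
    rw [HasRingHomProperty.Spec_iff (P := @Flat)] at h1
    exact h1
  · obtain ⟨v, hv, q, hq⟩ := Set.mem_iUnion₂.mp (ht (Set.mem_univ p))
    refine ⟨e.symm ⟨v, hv⟩, ?_⟩
    have h2 : (e (e.symm ⟨v, hv⟩)).1 = v := by rw [Equiv.apply_symm_apply]
    have h3 : p ∈ Set.range (g (e (e.symm ⟨v, hv⟩)).1) := by
      rw [h2]
      exact ⟨q, hq⟩
    obtain ⟨q', hq'⟩ := h3
    refine ⟨q', ?_⟩
    have h4 : (Spec.map (φ (e (e.symm ⟨v, hv⟩)).1)) q' = p := by
      rw [hφ]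
      exact hq'
    exact h4
  · change P (Spec (B (e i).1)) (Spec.map (φ (e i).1))
    rw [hφ]
    exact hPg _

end K915.RedHaar
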