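import Groth.Agent.SGA3x.K7.FamGen
import Groth.Agent.SGA3x.K7.IntDesc
import Groth.Agent.Sga3.H802.DSFam
import Groth.Agent.Sga3B.TorSmooth893

/-!
# Smoothness of the scheme of homomorphisms out of a group with invariant integrals

`S` any scheme, `G` an `S`-group whose base change to every affine scheme `Spec C ⟶ S` is the spectrum of a Hopf algebra
with an invariant integral; `H` a smooth `S`-group. A scheme `A` locally of finite presentation representing
`Hom(G, H)` is smooth over `S` (`smooth_of_representsHom`).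
-/

set_option autoImplicit false
universe u
open CategoryTheory MonoidalCategory CartesianMonoidalCategory MonObj AlgebraicGeometry Limits
open scoped TensorProduct

namespace K915.HomSmooth
open Groth.Agent
open Groth.Agent.Sga3B Groth.Agent.Sga3B.InfConj Groth.Agent.Sga3B.InfConjFam Groth.Agent.Sga3.H802.HomFam
open Groth.Agent.Sga3B.IsomOpen832 Groth.Agent.Sga3.H802.DSFam
open Groth.Agent.Books.AffBridge Groth.Agent.Sga3B.AffPts
open Groth.Agent.Sga3B.HaarDef (Haar)

section lift

variable {C : Type u} [CommRing C] {S : Scheme.{u}} (x : Spec (CommRingCat.of C) ⟶ S)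
variable {E G : Over S} [GrpObj E] [GrpObj G]

/-- **Lifting of families of homomorphisms** along nilpotent thickenings, arbitrary smooth target. -/
theorem exists_lift_bc [Smooth G.hom]
    {D : Type u} [CommRing D] [Bialgebra C D] (e : Red.bc x E ≅ pt C D) (he : IsModel e) (ν : Haar C D)
    (I : Ideal C) (hI : IsNilpotent I)
    (a₀ : E ⊗ Over.mk (Spec.map (CommRingCat.ofHom (Ideal.Quotient.mk I)) ≫ x) ⟶ G)
    (h₀ : AutFam.IsHomFamily E G a₀) :
    ∃ a : E ⊗ Over.mk x ⟶ G, AutFam.IsHomFamily E G a ∧ (E ◁ redMap x I) ≫ a = a₀ := by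
  have : Smooth (Red.bc x G).hom := inferInstanceAs (Smooth (pullback.snd _ _))
  let a₀' : E ⊗ (Over.map x).obj (pt C (C ⧸ I)) ⟶ G := a₀
  have h₀' : AutFam.IsHomFamily E G a₀' := h₀
  obtain ⟨b, hb, hb'⟩ := K7.FamGen.exists_lift_family e he (X := C) (Y := C ⧸ I) (π := Ideal.Quotient.mkₐ C I) ν
    (Ideal.Quotient.mkₐ_surjective C I) (by rwa [ker_mkA]) (isHomFamily_down x h₀')
  refine ⟨(E ◁ (topIso x).inv) ≫ up x b, (isHomFamily_whisker_iff (topIso x).symm _).mpr (isHomFamily_up x hb), ?_⟩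
  have h2 : redMap x I ≫ (topIso x).inv = (Over.map x).map (ptMap (Ideal.Quotient.mkₐ C I)) := by
    rw [Iso.comp_inv_eq, map_ptMap_topIso]
  rw [← Category.assoc, ← MonoidalCategory.whiskerLeft_comp, h2]
  exact (whisker_up x _ b).trans ((congrArg _ hb').trans (up_down x a₀'))

end lift

variable {S : Scheme.{u}}

/-- The `S`-group `G` has invariant integrals over every affine scheme over `S`. -/
def HasInt (G : Over S) [GrpObj G] : Prop :=
  ∀ (C : Type u) [CommRing C] (x : Spec (CommRingCat.of C) ⟶ S), ∃ (A : Type u) (_ : CommRing A) (_ : HopfAlgebra C A)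
    (e : Red.bc x G ≅ SpecOver C A) (_ : IsMonHom e.hom) (l : A →ₗ[C] C), K7.IntDesc.IsInt l

/-- **Smoothness of `Hom(G, H)`.** -/
theorem smooth_of_representsHom {G H A : Over S} [GrpObj G] [GrpObj H] (hG : HasInt G) [Smooth H.hom]
    {υ : G ⊗ A ⟶ H} (h : AutFam.RepresentsHom G H A υ) [LocallyOfFinitePresentation A.hom] : Smooth A.hom := by
  refine TorSmooth893.smooth_of_lift A fun C _ I hI x a => ?_
  obtain ⟨D, _, _, e, he, l, hl⟩ := hG C x
  obtain ⟨b, hb, hb'⟩ := exists_lift_bc x (e : Red.bc x G ≅ pt C D) (isModel_of_isMonHom e)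
    (K7.IntDesc.haarOfIsInt hl) I ⟨2, by rw [pow_two]; exact hI⟩ ((G ◁ a) ≫ υ) (by
      intro X g₁ g₂ t
      simp only [lift_whiskerLeft_assoc]
      exact h.1 X g₁ g₂ (t ≫ a))
  obtain ⟨c, hc, -⟩ := h.2 _ b hb
  refine ⟨c, ?_⟩
  have hu := h.2 _ ((G ◁ a) ≫ υ) (by
    intro X g₁ g₂ t
    simp only [lift_whiskerLeft_assoc]
    exact h.1 X g₁ g₂ (t ≫ a))
  refine hu.unique ?_ rfl
  rw [MonoidalCategory.whiskerLeft_comp, Category.assoc, hc, hb']

end K915.HomSmooth
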