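import Groth.Agent.SGA3x.K7.IntDesc
import Groth.Agent.HopfRep.K191.LInt

/-!
# Invariant integrals: base change and transport

* `isInt_of_baseChange`: an integral of `B ⊗ D` over `B` gives an integral of `D` with values in `B`;
* `exists_isInt_baseChange`: base change of integrals;
* `isInt_comp_equiv`: transport along isomorphisms of bialgebras;
* `exists_isInt_of_isLinearlyReductive`: the two-sided integral of a linearly reductive Hopf algebra.
-/

set_option autoImplicit false
open TensorProduct Coalgebra

namespace K915.RedHaar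
open K7.IntDesc

section bc

variable {R : Type*} [CommRing R] {D : Type*} [CommRing D] [Bialgebra R D]
variable {B : Type*} [CommRing B] [Algebra R B]

lemma comul_one_tmul (d : D) :
    (TensorProduct.AlgebraTensorModule.tensorTensorTensorComm R B R B B B D D
      ((1 ⊗ₜ 1) ⊗ₜ comul (R := R) d)) = comul (R := B) ((1 : B) ⊗ₜ[R] d) := by
  rw [TensorProduct.comul_tmul]
  rfl

/-- An integral of `B ⊗ D` over `B` is an integral of `D` with values in `B`. -/
theorem isInt_of_baseChange {l : B ⊗[R] D →ₗ[B] B} (h : IsInt (R := B) l) :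
    IsInt ((l.restrictScalars R) ∘ₗ (TensorProduct.mk R B D 1)) := by
  let l' : D →ₗ[R] B := (l.restrictScalars R) ∘ₗ (TensorProduct.mk R B D 1)
  have hl' : ∀ d, l' d = l ((1 : B) ⊗ₜ[R] d) := fun d => rfl
  have h2 : ∀ z : D ⊗[R] D, l'.rTensor D z = TensorProduct.lid B (B ⊗[R] D) (l.rTensor (B ⊗[R] D)
        (TensorProduct.AlgebraTensorModule.tensorTensorTensorComm R B R B B B D D ((1 ⊗ₜ 1) ⊗ₜ z))) := by
    intro z
    induction z using TensorProduct.induction_on with
    | zero => simp
    | tmul a b => simp [TensorProduct.smul_tmul', hl']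
    | add a b ha hb => simp only [TensorProduct.tmul_add, map_add, ha, hb]
  have h2' : ∀ z : D ⊗[R] D, TensorProduct.comm R D B (l'.lTensor D z) =
      TensorProduct.rid B (B ⊗[R] D) (l.lTensor (B ⊗[R] D)
        (TensorProduct.AlgebraTensorModule.tensorTensorTensorComm R B R B B B D D ((1 ⊗ₜ 1) ⊗ₜ z))) := by
    intro z
    induction z using TensorProduct.induction_on with
    | zero => simp
    | tmul a b => simp [TensorProduct.smul_tmul', hl']
    | add a b ha hb => simp only [TensorProduct.tmul_add, map_add, ha, hb]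
  refine ⟨?_, fun d => ?_, fun d => ?_⟩
  · exact h.one
  · change l'.rTensor D (comul (R := R) d) = l' d ⊗ₜ[R] (1 : D)
    rw [h2, comul_one_tmul, h.left, TensorProduct.lid_tmul, ← hl', Algebra.TensorProduct.one_def,
      TensorProduct.smul_tmul', smul_eq_mul, mul_one]
  · change l'.lTensor D (comul (R := R) d) = (1 : D) ⊗ₜ[R] l' d
    apply (TensorProduct.comm R D B).injective
    rw [h2', comul_one_tmul, h.right, TensorProduct.rid_tmul, ← hl', Algebra.TensorProduct.one_def,
      TensorProduct.smul_tmul', smul_eq_mul, mul_one, TensorProduct.comm_tmul]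

/-- Base change of integrals. -/
theorem exists_isInt_baseChange {l : D →ₗ[R] R} (h : IsInt l) : ∃ m : B ⊗[R] D →ₗ[B] B, IsInt (R := B) m := by
  let m : B ⊗[R] D →ₗ[B] B :=
    (TensorProduct.AlgebraTensorModule.rid R B B).toLinearMap ∘ₗ l.baseChange B
  have hm : ∀ (b : B) (d : D), m (b ⊗ₜ d) = l d • b := fun b d => by
    simp [m]
  have h1 : ∀ z : D ⊗[R] D, TensorProduct.lid B (B ⊗[R] D) (m.rTensor (B ⊗[R] D)
        (TensorProduct.AlgebraTensorModule.tensorTensorTensorComm R B R B B B D D ((1 ⊗ₜ 1) ⊗ₜ z))) =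
      (1 : B) ⊗ₜ[R] (TensorProduct.lid R D (l.rTensor D z)) := by
    intro z
    induction z using TensorProduct.induction_on with
    | zero => simp
    | tmul a b => simp [hm]
    | add a b ha hb => simp only [TensorProduct.tmul_add, map_add, ha, hb]
  have h2 : ∀ z : D ⊗[R] D, TensorProduct.rid B (B ⊗[R] D) (m.lTensor (B ⊗[R] D)
        (TensorProduct.AlgebraTensorModule.tensorTensorTensorComm R B R B B B D D ((1 ⊗ₜ 1) ⊗ₜ z))) =
      (1 : B) ⊗ₜ[R] (TensorProduct.rid R D (l.lTensor D z)) := by
    intro z
    induction z using TensorProduct.induction_on with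
    | zero => simp
    | tmul a b =>
      rw [TensorProduct.AlgebraTensorModule.tensorTensorTensorComm_tmul, LinearMap.lTensor_tmul,
        TensorProduct.rid_tmul, hm, LinearMap.lTensor_tmul, TensorProduct.rid_tmul, smul_assoc, one_smul,
        TensorProduct.tmul_smul]
    | add a b ha hb => simp only [TensorProduct.tmul_add, map_add, ha, hb]
  refine ⟨m, ?_, fun z => ?_, fun z => ?_⟩
  · rw [Algebra.TensorProduct.one_def, hm, h.one, one_smul]
  · apply (TensorProduct.lid B (B ⊗[R] D)).injective
    have key : (TensorProduct.lid B (B ⊗[R] D)).toLinearMap ∘ₗ m.rTensor (B ⊗[R] D) ∘ₗ comul =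
        (LinearMap.toSpanSingleton B (B ⊗[R] D) 1) ∘ₗ m := by
      apply TensorProduct.AlgebraTensorModule.curry_injective
      ext d
      change TensorProduct.lid B (B ⊗[R] D) (m.rTensor (B ⊗[R] D) (comul (R := B) ((1 : B) ⊗ₜ[R] d))) =
        m ((1 : B) ⊗ₜ[R] d) • (1 : B ⊗[R] D)
      rw [← comul_one_tmul, h1, h.left, TensorProduct.lid_tmul, hm, Algebra.TensorProduct.one_def,
        TensorProduct.tmul_smul, smul_assoc, one_smul]
    have := LinearMap.congr_fun key z
    simpa using this
  · apply (TensorProduct.rid B (B ⊗[R] D)).injective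
    have key : (TensorProduct.rid B (B ⊗[R] D)).toLinearMap ∘ₗ m.lTensor (B ⊗[R] D) ∘ₗ comul =
        (LinearMap.toSpanSingleton B (B ⊗[R] D) 1) ∘ₗ m := by
      apply TensorProduct.AlgebraTensorModule.curry_injective
      ext d
      change TensorProduct.rid B (B ⊗[R] D) (m.lTensor (B ⊗[R] D) (comul (R := B) ((1 : B) ⊗ₜ[R] d))) =
        m ((1 : B) ⊗ₜ[R] d) • (1 : B ⊗[R] D)
      rw [← comul_one_tmul, h2, h.right, TensorProduct.rid_tmul, hm, Algebra.TensorProduct.one_def,
        TensorProduct.tmul_smul, smul_assoc, one_smul]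
    have := LinearMap.congr_fun key z
    simpa using this

/-- Transport of integrals. -/
theorem isInt_comp_equiv {D' : Type*} [CommRing D'] [Bialgebra R D'] (e : D ≃ₐc[R] D') {l : D' →ₗ[R] B}
    (h : IsInt l) : IsInt (l ∘ₗ (e : D →ₗ[R] D')) := by
  have h0 : ∀ d, TensorProduct.map (e : D →ₗ[R] D') (e : D →ₗ[R] D') (comul (R := R) d) =
      comul (R := R) (e d) := fun d => CoalgHomClass.map_comp_comul_apply e d
  have inj1 : Function.Injective ((e : D →ₗ[R] D').lTensor B) := by
    have : Function.Injective (TensorProduct.congr (LinearEquiv.refl R B) (e : D ≃ₗ[R] D')) :=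
      (TensorProduct.congr _ _).injective
    exact this
  have inj2 : Function.Injective ((e : D →ₗ[R] D').rTensor B) := by
    have : Function.Injective (TensorProduct.congr (e : D ≃ₗ[R] D') (LinearEquiv.refl R B)) :=
      (TensorProduct.congr _ _).injective
    exact this
  refine ⟨?_, fun d => ?_, fun d => ?_⟩
  · have : (e : D →ₗ[R] D') 1 = 1 := map_one e
    rw [LinearMap.comp_apply, this, h.one]
  · apply inj1
    have h1 : ∀ z : D ⊗[R] D, (e : D →ₗ[R] D').lTensor B ((l ∘ₗ (e : D →ₗ[R] D')).rTensor D z) =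
        l.rTensor D' (TensorProduct.map (e : D →ₗ[R] D') (e : D →ₗ[R] D') z) := by
      intro z
      induction z using TensorProduct.induction_on with
      | zero => simp
      | tmul a b => simp
      | add a b ha hb => simp only [map_add, ha, hb]
    rw [h1, h0, h.left]
    simp
  · apply inj2
    have h1 : ∀ z : D ⊗[R] D, (e : D →ₗ[R] D').rTensor B ((l ∘ₗ (e : D →ₗ[R] D')).lTensor D z) =
        l.lTensor D' (TensorProduct.map (e : D →ₗ[R] D') (e : D →ₗ[R] D') z) := by
      intro z
      induction z using TensorProduct.induction_on with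
      | zero => simp
      | tmul a b => simp
      | add a b ha hb => simp only [map_add, ha, hb]
    rw [h1, h0, h.right]
    simp

end bc

universe u

/-- A linearly reductive Hopf algebra has a two-sided normalised integral. -/
theorem exists_isInt_of_isLinearlyReductive {k A : Type u} [Field k] [CommRing A] [HopfAlgebra k A]
    (hG : HopfRep.IsLinearlyReductive k A) : ∃ l : A →ₗ[k] k, IsInt l := by
  obtain ⟨α, hα, h1⟩ := K191.Reductive.exists_isInt hG
  obtain ⟨β, hβ, h1'⟩ := K191.LInt.exists_isLInt hG
  have hL : ∀ a : A, α.rTensor A (comul (R := k) a) = α a ⊗ₜ[k] (1 : A) := hα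
  have hR : ∀ a : A, β.lTensor A (comul (R := k) a) = (1 : A) ⊗ₜ[k] β a := hβ
  have he : α = β := by
    ext d
    have e1 : LinearMap.mul' k k (β.lTensor k (α.rTensor A (comul (R := k) d))) = α d := by
      rw [hL, LinearMap.lTensor_tmul, LinearMap.mul'_apply, h1', mul_one]
    have e2 : LinearMap.mul' k k (α.rTensor k (β.lTensor A (comul (R := k) d))) = β d := by
      rw [hR, LinearMap.rTensor_tmul, LinearMap.mul'_apply, h1, one_mul]
    rw [← e1, ← e2]
    congr 1
    rw [← LinearMap.comp_apply (LinearMap.lTensor k β), ← LinearMap.comp_apply (LinearMap.rTensor k α),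
      LinearMap.lTensor_comp_rTensor, LinearMap.rTensor_comp_lTensor]
  subst he
  exact ⟨α, h1, hL, hR⟩

end K915.RedHaar
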